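import Groth.Prelude.Def_GmAct
import Mathlib

set_option autoImplicit false
set_option synthInstance.maxHeartbeats 400000
set_option maxHeartbeats 4000000
set_option linter.style.haveILetI false
set_option linter.unusedSectionVars false
set_option linter.unusedVariables false
set_option linter.unusedSimpArgs false
set_option linter.unnecessarySimpa false

universe u

open CategoryTheory CategoryTheory.Limits MonoidalCategory CartesianMonoidalCategory MonObj
  AlgebraicGeometry Opposite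
open scoped TensorProduct Polynomial

namespace Groth.Agent.Helper2.ThetaLine

open CoactBr ThetaS

noncomputable local instance braidedAlgSpecOf' (R : Type u) [CommRing R] :
    (algSpec (CommRingCat.of R)).Braided :=
  braidedAlgSpec

section Sep

variable {S : Scheme.{u}}

theorem injective_appTop_SpecMap {A B : CommRingCat.{u}} (φ : A ⟶ B)
    (h : Function.Injective φ.hom) : Function.Injective (Spec.map φ).appTop.hom := by
  have h1 : ∀ x, (Scheme.ΓSpecIso B).hom.hom ((Spec.map φ).appTop.hom x) =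
      φ.hom ((Scheme.ΓSpecIso A).hom.hom x) := fun x => by
    exact congrArg (fun f => f.hom x) (Scheme.ΓSpecIso_naturality φ)
  intro a b hab
  have h2 : φ.hom ((Scheme.ΓSpecIso A).hom.hom a) = φ.hom ((Scheme.ΓSpecIso A).hom.hom b) := by
    rw [← h1, ← h1, hab]
  exact (ConcreteCategory.bijective_of_isIso (Scheme.ΓSpecIso A).hom).1 (h h2)

/-- two morphisms to a separated `S`-scheme out of an affine `S`-scheme `P` agree as soon as they
agree after a morphism `d : P' ⟶ P` which is injective on global functions -/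
theorem ext_of_injective {Y P P' : Over S} [IsSeparated Y.hom] [IsAffine P.left] (d : P' ⟶ P)
    (hd : Function.Injective d.left.appTop.hom) (f g : P ⟶ Y) (h : d ≫ f = d ≫ g) : f = g := by
  have hcl : IsClosedImmersion (equalizer.ι f g).left := inferInstance
  have hk : equalizer.lift d h ≫ equalizer.ι f g = d := equalizer.lift_ι _ _
  have hinj : Function.Injective (equalizer.ι f g).left.appTop.hom := by
    have e : d.left.appTop =
        (equalizer.ι f g).left.appTop ≫ (equalizer.lift d h).left.appTop := by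
      rw [← Scheme.Hom.comp_appTop, ← Over.comp_left, hk]
    intro a b hab
    apply hd
    rw [e]
    show (equalizer.lift d h).left.appTop.hom ((equalizer.ι f g).left.appTop.hom a) =
      (equalizer.lift d h).left.appTop.hom ((equalizer.ι f g).left.appTop.hom b)
    rw [hab]
  haveI : IsIso (equalizer.ι f g).left :=
    IsClosedImmersion.isIso_of_injective_of_isAffine hinj
  haveI : IsIso (equalizer.ι f g) := by
    haveI : IsIso ((Over.forget S).map (equalizer.ι f g)) := ‹IsIso (equalizer.ι f g).left›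
    exact isIso_of_reflects_iso _ (Over.forget S)
  rw [← cancel_epi (equalizer.ι f g)]
  exact equalizer.condition f g

end Sep

section Ring

variable (R : Type u) [CommRing R]

/-- the `n`-th component of the linear retraction of `R[x] → R[z, z⁻¹]` -/
noncomputable def retrFun (n : Multiplicative ℤ) : R →ₗ[R] R[X] :=
  if 0 ≤ Multiplicative.toAdd n then Polynomial.monomial (Multiplicative.toAdd n).toNat else 0

/-- the linear retraction of `R[x] → R[z, z⁻¹]` -/
noncomputable def retr : Lau R →ₗ[R] R[X] :=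
  (Finsupp.lsum ℕ (retrFun R)) ∘ₗ (MonoidAlgebra.coeffLinearEquiv R).toLinearMap

theorem retr_single (n : ℤ) (c : R) :
    retr R (MonoidAlgebra.single (Multiplicative.ofAdd n) c) =
      if 0 ≤ n then Polynomial.monomial n.toNat c else 0 := by
  simp only [retr, LinearMap.comp_apply, LinearEquiv.coe_coe,
    MonoidAlgebra.coeffLinearEquiv_apply, MonoidAlgebra.coeff_single]
  rw [Finsupp.lsum_single]
  simp only [retrFun, toAdd_ofAdd]
  split_ifs <;> rfl

theorem linePt_monomial (n : ℕ) (c : R) :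
    linePt (zPow R 1) (Polynomial.monomial n c) =
      MonoidAlgebra.single (Multiplicative.ofAdd (n : ℤ)) c := by
  rw [linePt, Polynomial.aeval_monomial, MonoidAlgebra.single_pow, one_pow,
    MonoidAlgebra.coe_algebraMap]
  simp only [Function.comp_apply, Algebra.algebraMap_self, RingHom.id_apply,
    MonoidAlgebra.single_mul_single, _root_.one_mul, _root_.mul_one]
  congr 1
  rw [← ofAdd_nsmul]
  simp

theorem retr_comp :
    (retr R) ∘ₗ (linePt (zPow R 1) : R[X] →ₐ[R] Lau R).toLinearMap = LinearMap.id := by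
  apply Polynomial.lhom_ext'
  intro n
  apply LinearMap.ext_ring
  simp only [LinearMap.comp_apply, AlgHom.toLinearMap_apply, LinearMap.id_apply]
  rw [linePt_monomial, retr_single]
  simp

theorem injective_map (B : Type u) [CommRing B] [Algebra R B] :
    Function.Injective (Algebra.TensorProduct.map (linePt (zPow R 1) : R[X] →ₐ[R] Lau R)
      (AlgHom.id R B)) := by
  have h : Function.LeftInverse (LinearMap.rTensor B (retr R))
      (LinearMap.rTensor B (linePt (zPow R 1) : R[X] →ₐ[R] Lau R).toLinearMap) := by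
    intro x
    rw [← LinearMap.comp_apply, ← LinearMap.rTensor_comp, retr_comp, LinearMap.rTensor_id,
      LinearMap.id_apply]
  intro x y hxy
  apply h.injective
  exact hxy

end Ring

section Pts

variable {R : Type u} [CommRing R] (B A : Type u) [CommRing B] [CommRing A] [Algebra R B]
  [Algebra R A]

/-- the universal pair of points of `Spec B × Spec A` -/
noncomputable def nu : sp R (B ⊗[R] A) ⟶ sp R B ⊗ sp R A :=
  lift (pt Algebra.TensorProduct.includeLeft) (pt Algebra.TensorProduct.includeRight)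

theorem nu_fst : nu (R := R) B A ≫ fst _ _ = pt Algebra.TensorProduct.includeLeft := lift_fst _ _

theorem nu_snd : nu (R := R) B A ≫ snd _ _ = pt Algebra.TensorProduct.includeRight := lift_snd _ _

theorem nu_mu : nu (R := R) B A ≫
    Functor.LaxMonoidal.μ (algSpec (CommRingCat.of R)) (op (.of R B)) (op (.of R A)) =
      pt (AlgHom.id R (B ⊗[R] A)) := by
  rw [nu, lift_pt_pt]
  congr 1
  apply Algebra.TensorProduct.ext'
  intro b a
  simp [Algebra.TensorProduct.lift_tmul, Algebra.TensorProduct.tmul_mul_tmul]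

theorem isIso_of_comp_eq_id {C : Type*} [Category C] {X Y : C} (f : X ⟶ Y) (g : Y ⟶ X)
    (hg : IsIso g) (h : f ≫ g = 𝟙 X) : IsIso f := by
  have : f = inv g := IsIso.eq_inv_of_inv_hom_id h
  rw [this]
  infer_instance

instance isIso_nu : IsIso (nu (R := R) B A) := by
  have h1 : nu (R := R) B A ≫
      Functor.LaxMonoidal.μ (algSpec (CommRingCat.of R)) (op (.of R B)) (op (.of R A)) = 𝟙 _ :=
    (nu_mu B A).trans pt_id
  have hμ : IsIso (Functor.LaxMonoidal.μ (algSpec (CommRingCat.of R)) (op (.of R B))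
      (op (.of R A))) := inferInstance
  exact isIso_of_comp_eq_id _ _ hμ h1

end Pts

section Act

variable (R : Type u) [CommRing R]

/-- the inclusion of the multiplicative group in the line -/
noncomputable abbrev jm : Gm R ⟶ Line R := CoactBr.pt (linePt (zPow R 1))

theorem whiskerLeft_jm_act : (Gm R ◁ jm R) ≫ (lineAction R).act = μ[Gm R] ≫ jm R := by
  rw [← cancel_epi (nu (R := R) (Lau R) (Lau R))]
  have hL : nu (R := R) (Lau R) (Lau R) ≫ (Gm R ◁ jm R) ≫ (lineAction R).act =
      pt (linePt ((Algebra.TensorProduct.includeLeft : Lau R →ₐ[R] Lau R ⊗[R] Lau R) (zPow R 1) *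
        (Algebra.TensorProduct.includeRight : Lau R →ₐ[R] Lau R ⊗[R] Lau R) (zPow R 1))) := by
    have e1 : (Algebra.TensorProduct.includeRight : Lau R →ₐ[R] Lau R ⊗[R] Lau R).comp
        (linePt (zPow R 1)) =
        linePt ((Algebra.TensorProduct.includeRight : Lau R →ₐ[R] Lau R ⊗[R] Lau R)
          (zPow R 1)) := by
      apply Polynomial.algHom_ext
      simp
    rw [nu, lift_whiskerLeft_assoc, ← pt_comp, e1]
    exact lineAction_pt _ _
  have hR : nu (R := R) (Lau R) (Lau R) ≫ μ[Gm R] ≫ jm R =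
      pt (linePt ((Algebra.TensorProduct.includeLeft : Lau R →ₐ[R] Lau R ⊗[R] Lau R) (zPow R 1) *
        (Algebra.TensorProduct.includeRight : Lau R →ₐ[R] Lau R ⊗[R] Lau R) (zPow R 1))) := by
    rw [nu, ← Category.assoc, ← Hom.mul_def, pt_mul_pt, ← pt_comp]
    congr 1
    apply Polynomial.algHom_ext
    simp [Bialgebra.comulAlgHom_apply, Algebra.TensorProduct.lift_tmul]
  rw [hL, hR]

theorem lift_jm_act {T' : Over (Spec (CommRingCat.of R))} (g h : T' ⟶ Gm R) :
    lift g (h ≫ jm R) ≫ (lineAction R).act = (g * h) ≫ jm R := by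
  rw [Hom.mul_def, Category.assoc, ← whiskerLeft_jm_act, lift_whiskerLeft_assoc]

theorem lift_one_jm_act {T' : Over (Spec (CommRingCat.of R))} (g : T' ⟶ Gm R) :
    lift g ((1 : T' ⟶ Gm R) ≫ jm R) ≫ (lineAction R).act = g ≫ jm R := by
  rw [lift_jm_act, _root_.mul_one]

theorem lift_mul_act {X : Over (Spec (CommRingCat.of R))} (a : AlgGrp.Action (Gm R) X)
    {T' : Over (Spec (CommRingCat.of R))} (g h : T' ⟶ Gm R) (y : T' ⟶ X) :
    lift (g * h) y ≫ a.act = lift g (lift h y ≫ a.act) ≫ a.act := by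
  have := congrArg (lift (lift g h) y ≫ ·) a.mul_act
  simp only [lift_whiskerRight_assoc, ← Hom.mul_def, lift_lift_associator_hom_assoc,
    lift_whiskerLeft_assoc] at this
  exact this

end Act

section Dense

variable (R : Type u) [CommRing R]

theorem ext_line_affine (B : Type u) [CommRing B] [Algebra R B]
    {Y : Over (Spec (CommRingCat.of R))} [IsSeparated Y.hom]
    (f g : Line R ⊗ sp R B ⟶ Y) (h : (jm R ▷ sp R B) ≫ f = (jm R ▷ sp R B) ≫ g) : f = g := by
  rw [← cancel_epi (nu (R := R) R[X] B)]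
  obtain ⟨ψ, hψdef⟩ : ∃ ψ : R[X] ⊗[R] B →ₐ[R] Lau R ⊗[R] B, ψ =
    Algebra.TensorProduct.map (linePt (zPow R 1) : R[X] →ₐ[R] Lau R) (AlgHom.id R B) := ⟨_, rfl⟩
  have hψ : pt ψ ≫ nu (R := R) R[X] B = nu (R := R) (Lau R) B ≫ (jm R ▷ sp R B) := by
    apply CartesianMonoidalCategory.hom_ext
    · rw [Category.assoc, nu_fst, Category.assoc, whiskerRight_fst, ← Category.assoc, nu_fst,
        ← pt_comp, ← pt_comp]
      congr 1
      apply AlgHom.ext
      intro p
      simp [hψdef]
    · rw [Category.assoc, nu_snd, Category.assoc, whiskerRight_snd, nu_snd, ← pt_comp]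
      congr 1
      apply AlgHom.ext
      intro b
      simp [hψdef]
  haveI : IsAffine (sp R (R[X] ⊗[R] B)).left := by
    show IsAffine (Spec _)
    infer_instance
  apply ext_of_injective (pt ψ) ?_ _ _ ?_
  · rw [pt_left, hψdef]
    exact injective_appTop_SpecMap _ (injective_map R B)
  · rw [← Category.assoc, hψ, Category.assoc, h, ← Category.assoc, ← hψ, Category.assoc]

theorem exists_sp_hom (W : Over (Spec (CommRingCat.of R))) (A : CommRingCat.{u})
    (g : Spec A ⟶ W.left) :
    ∃ (alg : Algebra R A) (t : @CoactBr.sp R _ A _ alg ⟶ W), t.left = g := by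
  let φ : CommRingCat.of R ⟶ A := Spec.preimage (g ≫ W.hom)
  letI alg : Algebra R A := φ.hom.toAlgebra
  have hw : g ≫ W.hom = (@CoactBr.sp R _ A _ alg).hom := by
    show g ≫ W.hom = Spec.map (CommRingCat.ofHom (algebraMap R A))
    have e : CommRingCat.ofHom (algebraMap R A) = φ := rfl
    rw [e, Spec.map_preimage]
  exact ⟨alg, Over.homMk g hw, rfl⟩

theorem ext_line_aux {W Y : Over (Spec (CommRingCat.of R))} [IsSeparated Y.hom]
    (f g : Line R ⊗ W ⟶ Y) (h : (jm R ▷ W) ≫ f = (jm R ▷ W) ≫ g)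
    (A : CommRingCat.{u}) (alg : Algebra R A) (t : @CoactBr.sp R _ A _ alg ⟶ W) :
    pullback.fst (snd (Line R) W).left t.left ≫ f.left =
      pullback.fst (snd (Line R) W).left t.left ≫ g.left := by
  obtain ⟨qh, hqh⟩ : ∃ qh : Over.mk (pullback.fst (snd (Line R) W).left t.left ≫
      (Line R ⊗ W).hom) ⟶ Line R ⊗ W, qh.left = pullback.fst (snd (Line R) W).left t.left :=
    ⟨Over.homMk _ rfl, rfl⟩
  have hw2 : pullback.snd (snd (Line R) W).left t.left ≫ (sp R A).hom =
      pullback.fst (snd (Line R) W).left t.left ≫ (Line R ⊗ W).hom := by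
    rw [← Over.w t, ← Category.assoc, ← pullback.condition, Category.assoc,
      Over.w (snd (Line R) W)]
  obtain ⟨q2, hq2⟩ : ∃ q2 : Over.mk (pullback.fst (snd (Line R) W).left t.left ≫
      (Line R ⊗ W).hom) ⟶ sp R A,
      q2.left = pullback.snd (snd (Line R) W).left t.left :=
    ⟨Over.homMk _ hw2, rfl⟩
  have hq : lift (qh ≫ fst _ _) q2 ≫ (Line R ◁ t) = qh := by
    apply CartesianMonoidalCategory.hom_ext
    · rw [Category.assoc, whiskerLeft_fst, lift_fst]
    · rw [Category.assoc, whiskerLeft_snd, ← Category.assoc, lift_snd]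
      apply Over.OverMorphism.ext
      rw [Over.comp_left, Over.comp_left, hq2, hqh]
      exact pullback.condition.symm
  have key : (Line R ◁ t) ≫ f = (Line R ◁ t) ≫ g := by
    apply ext_line_affine R A
    rw [← Category.assoc, ← whisker_exchange, Category.assoc, h, ← Category.assoc,
      whisker_exchange, Category.assoc]
  have e1 : qh ≫ f = qh ≫ g := by
    rw [← hq, Category.assoc, key, ← Category.assoc]
  rw [← hqh, ← Over.comp_left, ← Over.comp_left, e1]

theorem ext_line {W Y : Over (Spec (CommRingCat.of R))} [IsSeparated Y.hom]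
    (f g : Line R ⊗ W ⟶ Y) (h : (jm R ▷ W) ≫ f = (jm R ▷ W) ≫ g) : f = g := by
  apply Over.OverMorphism.ext
  apply Scheme.Cover.hom_ext
    (W.left.affineOpenCover.openCover.pullback₁ (snd (Line R) W).left)
  intro (i : W.left.affineOpenCover.I₀)
  change pullback.fst (snd (Line R) W).left (W.left.affineOpenCover.f i) ≫ f.left =
    pullback.fst (snd (Line R) W).left (W.left.affineOpenCover.f i) ≫ g.left
  obtain ⟨alg, t, ht⟩ := exists_sp_hom R W (W.left.affineOpenCover.X i)
    (W.left.affineOpenCover.f i)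
  have := ext_line_aux R f g h _ alg t
  rw [ht] at this
  exact this

end Dense

section Main

variable (R : Type u) [CommRing R] {X : Over (Spec (CommRingCat.of R))} [IsSeparated X.hom]
  (a : AlgGrp.Action (Gm R) X) {T : Over (Spec (CommRingCat.of R))}

/-- points form of equivariance -/
theorem equivariant_pts {u : Line R ⊗ T ⟶ X}
    (hu : (α_ (Gm R) (Line R) T).inv ≫ ((lineAction R).act ▷ T) ≫ u = (Gm R ◁ u) ≫ a.act)
    {T' : Over (Spec (CommRingCat.of R))} (g : T' ⟶ Gm R) (l : T' ⟶ Line R) (t : T' ⟶ T) :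
    lift (lift g l ≫ (lineAction R).act) t ≫ u = lift g (lift l t ≫ u) ≫ a.act := by
  have := congrArg (lift g (lift l t) ≫ ·) hu
  simp only [lift_lift_associator_inv_assoc, lift_whiskerRight_assoc,
    lift_whiskerLeft_assoc] at this
  exact this

theorem jm_whisker_comp {u : Line R ⊗ T ⟶ X}
    (hu : (α_ (Gm R) (Line R) T).inv ≫ ((lineAction R).act ▷ T) ≫ u = (Gm R ◁ u) ≫ a.act) :
    (jm R ▷ T) ≫ u = lift (fst (Gm R) T)
      (snd (Gm R) T ≫ lift ((1 : T ⟶ Gm R) ≫ jm R) (𝟙 T) ≫ u) ≫ a.act := by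
  have e1 : (jm R ▷ T) = lift (lift (fst (Gm R) T) ((1 : Gm R ⊗ T ⟶ Gm R) ≫ jm R) ≫
      (lineAction R).act) (snd (Gm R) T) := by
    rw [lift_one_jm_act]
    apply CartesianMonoidalCategory.hom_ext
    · rw [whiskerRight_fst, lift_fst]
    · rw [whiskerRight_snd, lift_snd]
  rw [e1, equivariant_pts R a hu]
  congr 2
  rw [← Category.assoc (snd (Gm R) T), comp_lift, Category.comp_id,
    ← Category.assoc (snd (Gm R) T), MonObj.comp_one]

theorem part_a (u v : Line R ⊗ T ⟶ X)
    (hu : (α_ (Gm R) (Line R) T).inv ≫ ((lineAction R).act ▷ T) ≫ u = (Gm R ◁ u) ≫ a.act)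
    (hv : (α_ (Gm R) (Line R) T).inv ≫ ((lineAction R).act ▷ T) ≫ v = (Gm R ◁ v) ≫ a.act)
    (hs : lift ((1 : T ⟶ Gm R) ≫ jm R) (𝟙 T) ≫ u = lift ((1 : T ⟶ Gm R) ≫ jm R) (𝟙 T) ≫ v) :
    u = v := by
  apply ext_line R
  rw [jm_whisker_comp R a hu, jm_whisker_comp R a hv, hs]

theorem part_b (x : T ⟶ X) (u : Line R ⊗ T ⟶ X)
    (hx : (jm R ▷ T) ≫ u = (Gm R ◁ x) ≫ a.act) :
    (α_ (Gm R) (Line R) T).inv ≫ ((lineAction R).act ▷ T) ≫ u = (Gm R ◁ u) ≫ a.act := by
  obtain ⟨σ, hσ⟩ : ∃ σ : Line R ⊗ (Gm R ⊗ T) ⟶ Gm R ⊗ (Line R ⊗ T),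
    σ = lift (snd _ _ ≫ fst _ _) (lift (fst _ _) (snd _ _ ≫ snd _ _)) := ⟨_, rfl⟩
  obtain ⟨τ, hτ⟩ : ∃ τ : Gm R ⊗ (Line R ⊗ T) ⟶ Line R ⊗ (Gm R ⊗ T),
    τ = lift (snd _ _ ≫ fst _ _) (lift (fst _ _) (snd _ _ ≫ snd _ _)) := ⟨_, rfl⟩
  have hτσ : τ ≫ σ = 𝟙 _ := by
    apply CartesianMonoidalCategory.hom_ext
    · simp [hσ, hτ]
    · apply CartesianMonoidalCategory.hom_ext <;> simp [hσ, hτ]
  have hpt : ∀ {T' : Over (Spec (CommRingCat.of R))} (k : T' ⟶ Gm R) (t : T' ⟶ T),
      lift (k ≫ jm R) t ≫ u = lift k (t ≫ x) ≫ a.act := by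
    intro T' k t
    have := congrArg (lift k t ≫ ·) hx
    simp only [lift_whiskerRight_assoc, lift_whiskerLeft_assoc] at this
    exact this
  have e0 : (jm R ▷ (Gm R ⊗ T)) ≫ σ = lift (snd _ _ ≫ fst _ _)
      (lift (fst _ _ ≫ jm R) (snd _ _ ≫ snd _ _)) := by
    apply CartesianMonoidalCategory.hom_ext
    · simp [hσ]
    · apply CartesianMonoidalCategory.hom_ext <;> simp [hσ]
  have L1 : (jm R ▷ (Gm R ⊗ T)) ≫ σ ≫ (α_ (Gm R) (Line R) T).inv ≫
      ((lineAction R).act ▷ T) ≫ u =
      lift ((snd (Gm R) (Gm R ⊗ T) ≫ fst _ _) * fst (Gm R) (Gm R ⊗ T))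
        ((snd (Gm R) (Gm R ⊗ T) ≫ snd _ _) ≫ x) ≫ a.act := by
    rw [← Category.assoc, e0, lift_lift_associator_inv_assoc, lift_whiskerRight_assoc,
      lift_jm_act, hpt]
  have L2 : (jm R ▷ (Gm R ⊗ T)) ≫ σ ≫ (Gm R ◁ u) ≫ a.act =
      lift ((snd (Gm R) (Gm R ⊗ T) ≫ fst _ _) * fst (Gm R) (Gm R ⊗ T))
        ((snd (Gm R) (Gm R ⊗ T) ≫ snd _ _) ≫ x) ≫ a.act := by
    rw [← Category.assoc, e0, lift_whiskerLeft_assoc, hpt, lift_mul_act]
  have hσ' : σ ≫ (α_ (Gm R) (Line R) T).inv ≫ ((lineAction R).act ▷ T) ≫ u =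
      σ ≫ (Gm R ◁ u) ≫ a.act := by
    apply ext_line R
    exact L1.trans L2.symm
  calc (α_ (Gm R) (Line R) T).inv ≫ ((lineAction R).act ▷ T) ≫ u
      = (τ ≫ σ) ≫ (α_ (Gm R) (Line R) T).inv ≫ ((lineAction R).act ▷ T) ≫ u := by
        rw [hτσ, Category.id_comp]
    _ = τ ≫ σ ≫ (α_ (Gm R) (Line R) T).inv ≫ ((lineAction R).act ▷ T) ≫ u :=
        Category.assoc _ _ _
    _ = τ ≫ σ ≫ (Gm R ◁ u) ≫ a.act := by rw [hσ']
    _ = (τ ≫ σ) ≫ (Gm R ◁ u) ≫ a.act := (Category.assoc _ _ _).symm
    _ = (Gm R ◁ u) ≫ a.act := by rw [hτσ, Category.id_comp]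

end Main

end Groth.Agent.Helper2.ThetaLine
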